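import Groth.Agent.Krr.H478.SectZero
import Groth.Agent.Krr.H450.Assembly
import Groth.Agent.Krr.H450.IsoCase
import Groth.Agent.Krr.H446.ProjFormula
import Groth.Agent.Krr.H498.PushRes
import Groth.Agent.Krr.H502.KosMain
import Groth.Agent.Krr.H491.BottMul

/-!
# Adams–Riemann–Roch for a section of a projective bundle

`π : P ⟶ X` a projective bundle (`KRR.IsProjBundle`) of a finite locally free module of rank `r + 1`, `s` a section.

* `pushCl_eq`: `s_K x = λ_{-1}[N] · π^K x`, `N` the module of the cosection with zero scheme `s`.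
* `rr_section`: `ψ^j (s_K x) = s_K (θ^j [conormal s] · ψ^j x)`.
-/

set_option autoImplicit false
universe v w u

open CategoryTheory CategoryTheory.Limits AlgebraicGeometry

namespace Groth.Agent.Krr.H478.SectRR

open KRR Groth.Agent.Krr.H482.LamAlg Groth.Agent.Krr.H482.PullLambda
  Groth.Agent.Krr.H482.PullFinal

variable {X P : Scheme.{u}} {π : P ⟶ X} {E : X.Modules} {O1 : P.Modules}
  {q : (Scheme.Modules.pullback π).obj E ⟶ O1} {r : ℕ}
  {KX : Type v} [CommRing KX] [LambdaRing.LambdaOps KX] {PX : LambdaRing.PosStructure KX}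
  {φX : SGA6.Kvb X →+ KX}
  {KP : Type w} [CommRing KP] [LambdaRing.LambdaOps KP] {PP : LambdaRing.PosStructure KP}
  {φP : SGA6.Kvb P →+ KP}

/-- The push-forward along a section of a projective bundle. -/
theorem exists_pushCl_eq [IsNoetherian X] [IsNoetherian P]
    (hPe : HasEnoughLocFree P) (hE : FlatMod.IsFinLocFreeOfRank (r + 1) E)
    (hPB : IsProjBundle π E O1 q) (s : X ⟶ P) (hs : s ≫ π = 𝟙 X)
    (hKX : IsModel X KX PX φX) (hKP : IsModel P KP PP φP)
    {gs : KX →+ KP} (hgs : IsPushCl s φX φP gs)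
    {qπ : KX →+ KP} (hqπ : IsPull π φX φP qπ) {qs : KP →+ KX} (hqs : IsPull s φP φX qs) :
    ∃ N : P.Modules, FlatMod.IsFinLocFreeOfRank r N ∧
      qs (φP (cl P N)) = φX (cl X (Omega.conormal s)) ∧
      (∀ x, qs (qπ x) = x) ∧ (∀ x y, gs (x * qs y) = gs x * y) ∧
      gs 1 = lamAlt PP (φP (cl P N)) := by
  obtain ⟨hcl, N, t, hN, ht⟩ := SectZero.exists_zero hE hPB s hs
  have hreg := SectZero.isRegularClosedImmersion hE hPB s hs
  have hcon := SectZero.isFinLocFreeOfRank_conormal hE hPB s hs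
  obtain ⟨e⟩ := SectZero.nonempty_conormal_iso hE hPB s hs hN ht
  refine ⟨N, hN, ?_, ?_, ?_, ?_⟩
  · rw [hqs N (isFinLocFree_of_rank hN)]
    exact congrArg φX (cl_iso e (isFinLocFree_of_rank
      (Groth.Agent.PerfB.FibreConc.isFinLocFreeOfRank_pullback s hN)))
  · have h1 : IsPull (𝟙 X) φX φX (qs.comp qπ) := isPull_congr hs (isPull_comp hqs hqπ)
    have h2 : qs.comp qπ = AddMonoidHom.id KX := isPull_unique hKX h1 (isPull_id fun E _ => rfl)
    exact fun y => DFunLike.congr_fun h2 y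
  · exact Groth.Agent.Krr.H446.ProjFormula.pushCl_mul_pull_of_hasLFRes s
      (fun F hF => Groth.Agent.Krr.H498.PushRes.hasLFRes_pushforward hPe s hreg hF) hKX hKP hqs hgs
  · exact Groth.Agent.Krr.H502.KosMain.pushCl_one hN t s
      (fun U => by rw [ht U, ImIdeal.rg_eq_span]) hreg hcon hKX hKP hgs

/-- **Adams–Riemann–Roch for a section of a projective bundle.** -/
theorem rr_section [IsNoetherian X] [IsNoetherian P]
    (hPe : HasEnoughLocFree P) (hE : FlatMod.IsFinLocFreeOfRank (r + 1) E)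
    (hPB : IsProjBundle π E O1 q) (s : X ⟶ P) (hs : s ≫ π = 𝟙 X)
    (hKX : IsModel X KX PX φX) (hKP : IsModel P KP PP φP) (hsp : LambdaRing.HasSplitting KP PP)
    {gs : KX →+ KP} (hgs : IsPushCl s φX φP gs) {j : ℕ} (hj : 1 ≤ j) (x : KX) :
    LambdaRing.adams PP j (gs x) =
      gs (bott PX j (φX (cl X (Omega.conormal s))) * LambdaRing.adams PX j x) := by
  obtain ⟨qπ, hqπ⟩ := exists_isPull (KY := KX) (KX := KP) π hKX.bijective φP
  obtain ⟨qs, hqs⟩ := exists_isPull (KY := KP) (KX := KX) s hKP.bijective φX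
  obtain ⟨N, hN, hc, hsec, hproj, hone⟩ := exists_pushCl_eq hPe hE hPB s hs hKX hKP hgs hqπ hqs
  have h1 : ∀ y, gs y = lamAlt PP (φP (cl P N)) * qπ y := by
    intro y
    have := hproj 1 (qπ y)
    rwa [one_mul, hsec, hone] at this
  have h2 : LambdaRing.adams PP j (lamAlt PP (φP (cl P N))) =
      lamAlt PP (φP (cl P N)) * bott PP j (φP (cl P N)) := by
    rcases Nat.eq_zero_or_pos r with rfl | hr
    · have h0 : φP (cl P N) = 0 := by
        rw [Groth.Agent.Krr.H450.IsoCase.cl_isZero (Groth.Agent.Krr.H495.Rank.isZero_of_rank_zero hN),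
          map_zero]
      rw [h0, Groth.Agent.Krr.H491.BottMul.lamAlt_zero, Groth.Agent.Krr.H491.BottMul.bott_zero,
        mul_one, Groth.Agent.Books.Lambda1.adams_one]
    · exact Groth.Agent.Krr.H491.Bott.adams_lamAlt PP hsp _
        ((hKP.mem_pos_iff _).2 ⟨r, N, hr, hN, rfl⟩) j
  rw [h1 x, Groth.Agent.Books.Lambda1.adams_mul PP hsp, h2,
    ← Groth.Agent.Krr.H450.Assembly.pull_adams hKP hKX hqπ hj x, mul_assoc, h1]
  have h3 : lamAlt PP (φP (cl P N)) * (bott PP j (φP (cl P N)) * qπ (LambdaRing.adams PX j x)) =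
      gs (1 * qs (bott PP j (φP (cl P N)) * qπ (LambdaRing.adams PX j x))) := by
    rw [hproj, hone]
  rw [h3, one_mul, pull_mul hKX hKP hqs, hsec,
    Groth.Agent.Krr.H450.Assembly.pull_bott hKX hKP hqs, hc, h1]

end Groth.Agent.Krr.H478.SectRR
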