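import Groth.Agent.Krr.H487.LocBasisPull
import Groth.Agent.Sga67.FlatPre
import Groth.Agent.Ega1.FTStalkFin
import Mathlib.RingTheory.Finiteness.Basic

/-!
# An epimorphism between finite locally free modules of the same rank is an isomorphism
-/

set_option autoImplicit false
universe u

open CategoryTheory CategoryTheory.Limits AlgebraicGeometry

namespace Groth.Agent.Krr.H478.EpiIso

open Groth.Agent.Sga67.Sec Groth.Agent.Sga67.LocBasis Groth.Agent.Krr.H487.LocBasisPull

variable {X : Scheme.{u}}

/-- A basis of the stalk of a finite locally free module. -/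
theorem exists_basis {n : ℕ} {M : X.Modules} (hM : FlatMod.IsFinLocFreeOfRank n M) (x : X) :
    Nonempty (Module.Basis (Fin n) (X.presheaf.stalk x) (M.presheaf.stalk x)) := by
  obtain ⟨U, hx, ⟨e⟩⟩ := hM x
  obtain ⟨b, hb⟩ := nonempty_restrict_iso_iff.mp ⟨e⟩
  obtain ⟨β, -⟩ := exists_stalkBasis hb x hx
  exact ⟨β⟩

theorem isIso_of_epi {n : ℕ} {M N : X.Modules} (φ : M ⟶ N) [Epi φ]
    (hM : FlatMod.IsFinLocFreeOfRank n M) (hN : FlatMod.IsFinLocFreeOfRank n N) : IsIso φ := by
  refine Groth.Agent.Sga67.FlatPre.isIso_of_stalkMap_bijective φ fun x => ?_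
  have hs := (Groth.Agent.Ega1.FTStalkFin.epi_iff_stalkMap_surjective φ).1 inferInstance x
  obtain ⟨β⟩ := exists_basis hM x
  obtain ⟨γ⟩ := exists_basis hN x
  let e := β.equiv γ (Equiv.refl _)
  have hfin : Module.Finite (X.presheaf.stalk x) (M.presheaf.stalk x) := Module.Finite.of_basis β
  have h1 : Function.Surjective (e.symm.toLinearMap ∘ₗ
      Groth.Agent.Fdesc.Skyscraper.stalkMap φ x) := e.symm.surjective.comp hs
  have h2 := OrzechProperty.injective_of_surjective_endomorphism _ h1
  refine ⟨?_, hs⟩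
  intro a b hab
  apply h2
  exact congrArg e.symm hab

end Groth.Agent.Krr.H478.EpiIso
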