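import Groth.Prelude.Def_KRR
import Groth.Agent.Krr.H478.EpiIso
import Groth.Agent.Sga67.TensorOps
import Groth.Agent.Grpsch.PicGrp
import Groth.Agent.Ega2.QCohLocal

/-!
# Cosections

* `map_eq_zero_iff`: `h^* φ = 0` iff `φ` kills pull-backs of sections.
* `exists_cosection`: for `τ : M ⟶ L` with `M` finite locally free of rank `r` and `L` invertible there are `N`
  finite locally free of rank `r` and `t : N ⟶ O` with `h^* t = 0 ↔ h^* τ = 0` for all `h`.
-/

set_option autoImplicit false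
universe u

open CategoryTheory CategoryTheory.Limits AlgebraicGeometry
open scoped TensorProduct

namespace Groth.Agent.Krr.H478.Cosection

open Groth.Agent.Sga67.Sec Groth.Agent.Sga67.LocBasis
open Groth.Agent.Krr.H487.LocBasisPull Groth.Agent.Sga67.ExtSheaf Groth.Agent.Sga67.TensorOps

variable {Y T : Scheme.{u}}

theorem map_eq_zero_iff (h : T ⟶ Y) {M N : Y.Modules} (φ : M ⟶ N) :
    (Scheme.Modules.pullback h).map φ = 0 ↔
      ∀ (U : Y.Opens) (s : Sec M U), pbS h N (appS φ U s) = 0 := by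
  constructor
  · intro h0 U s
    rw [← appS_pbS, h0]
    rfl
  · intro H
    apply ((Scheme.Modules.pullbackPushforwardAdjunction h).homEquiv _ _).injective
    have h1 : ((Scheme.Modules.pullbackPushforwardAdjunction h).homEquiv _ _)
        ((Scheme.Modules.pullback h).map φ) =
        φ ≫ (Scheme.Modules.pullbackPushforwardAdjunction h).unit.app N := by
      rw [Adjunction.homEquiv_unit]
      exact ((Scheme.Modules.pullbackPushforwardAdjunction h).unit.naturality φ).symm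
    have h2 : ((Scheme.Modules.pullbackPushforwardAdjunction h).homEquiv M
        ((Scheme.Modules.pullback h).obj N)) 0 = 0 := by
      rw [Adjunction.homEquiv_unit, Functor.map_zero, comp_zero]
    rw [h1, h2]
    apply hom_ext
    intro U s
    exact H U s

/-- A local generator of an invertible module. -/
abbrev Gen {L : Y.Modules} {U : Y.Opens} (e : Sec L U) : Prop := IsLocBasis (fun _ : Fin 1 => e)

theorem comb_one {L : Y.Modules} {U V : Y.Opens} (e : Sec L U) (h : V ≤ U) (a : Fin 1 → Γ(Y, V)) :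
    comb (fun _ : Fin 1 => e) h a = a 0 • res L h e := by
  simp [comb_apply]

theorem Gen.exists_eq {L : Y.Modules} {U V : Y.Opens} {e : Sec L U} (he : Gen e) (h : V ≤ U)
    (s : Sec L V) : ∃ a : Γ(Y, V), s = a • res L h e := by
  obtain ⟨a, ha⟩ := (he V h).2 s
  exact ⟨a 0, by rw [← ha, comb_one]⟩

theorem Gen.eq_zero {L : Y.Modules} {U V : Y.Opens} {e : Sec L U} (he : Gen e) (h : V ≤ U)
    {a : Γ(Y, V)} (ha : a • res L h e = 0) : a = 0 := by
  have h1 := (he V h).1 (a₁ := fun _ => a) (a₂ := 0) (by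
    rw [comb_one, ha, map_zero])
  exact congrFun h1 0

theorem Gen.restrict {L : Y.Modules} {U V : Y.Opens} {e : Sec L U} (he : Gen e) (h : V ≤ U) :
    Gen (res L h e) := IsLocBasis.restrict he h

theorem Gen.pbS {L : Y.Modules} {U : Y.Opens} {e : Sec L U} (he : Gen e) (h : T ⟶ Y) :
    Gen (Groth.Agent.Krr.H487.LocBasisPull.pbS h L e) := isLocBasis_pbS h he

theorem Gen.pbS_smul_eq_zero_iff {L : Y.Modules} {U : Y.Opens} {e : Sec L U} (he : Gen e)
    (h : T ⟶ Y) (a : Γ(Y, U)) :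
    Groth.Agent.Krr.H487.LocBasisPull.pbS h L (a • e) = 0 ↔ h.app U a = 0 := by
  rw [pbS_smul]
  constructor
  · intro h0
    have h1 := (he.pbS h).eq_zero (V := h ⁻¹ᵁ U) le_rfl (a := h.app U a) (by
      rw [res_self]; exact h0)
    exact h1
  · intro h0
    rw [h0, zero_smul]

/-- Existence of local generators. -/
theorem exists_gen {L : Y.Modules} (hL : FlatMod.IsFinLocFreeOfRank 1 L) (x : Y) :
    ∃ (U : Y.Opens) (_ : x ∈ U) (e : Sec L U), Gen e := by
  obtain ⟨U, hx, hU⟩ := hL x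
  obtain ⟨b, hb⟩ := nonempty_restrict_iso_iff.mp hU
  refine ⟨U, hx, b 0, ?_⟩
  have : b = fun _ => b 0 := funext fun i => by rw [Subsingleton.elim i 0]
  have h2 : IsLocBasis (fun _ : Fin 1 => b 0) := by
    rw [← this]
    exact hb
  exact h2

theorem pbS_eq_zero_of_locally (h : T ⟶ Y) {N : Y.Modules} {U : Y.Opens} (s : Sec N U)
    (H : ∀ y ∈ U, ∃ (V : Y.Opens) (hV : V ≤ U), y ∈ V ∧ pbS h N (res N hV s) = 0) :
    pbS h N s = 0 := by
  apply eq_of_locally
  intro x hx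
  obtain ⟨V, hV, hxV, e⟩ := H (h x) hx
  refine ⟨h ⁻¹ᵁ V, fun y hy => hV hy, hxV, ?_⟩
  rw [res_pbS h N hV, e, map_zero]

theorem isFinLocFreeOfRank_tensorMod {m n : ℕ} {M N : Y.Modules}
    (hM : FlatMod.IsFinLocFreeOfRank m M) (hN : FlatMod.IsFinLocFreeOfRank n N) :
    FlatMod.IsFinLocFreeOfRank (m * n) (CohB1.tensorMod M N) := by
  intro x
  obtain ⟨U, hxU, hU⟩ := hM x
  obtain ⟨b, hb⟩ := nonempty_restrict_iso_iff.mp hU
  obtain ⟨V, hxV, hV⟩ := hN x
  obtain ⟨c, hc⟩ := nonempty_restrict_iso_iff.mp hV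
  refine ⟨U ⊓ V, ⟨hxU, hxV⟩, nonempty_restrict_iso_iff.mpr
    ⟨_, (isLocBasis_tensor (hb.restrict inf_le_left) (hc.restrict inf_le_right)).reindex
      finProdFinEquiv.symm⟩⟩

theorem exists_tau_eq {D M : Y.Modules} {m : ℕ} {U : Y.Opens} {d : Sec D U} (hd : Gen d)
    {b : Fin m → Sec M U} (hb : IsLocBasis b) (s : Sec (CohB1.tensorMod D M) U) :
    ∃ x : Sec M U, s = tau D M U (d ⊗ₜ[Γ(Y, U)] x) := by
  obtain ⟨t, rfl⟩ := (tau_bijective hd hb (V := U) le_rfl).2 s
  induction t using TensorProduct.induction_on with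
  | zero => exact ⟨0, by rw [TensorProduct.tmul_zero]⟩
  | tmul u v =>
    obtain ⟨a, ha⟩ := hd.exists_eq le_rfl u
    rw [res_self] at ha
    refine ⟨a • v, ?_⟩
    rw [ha, TensorProduct.smul_tmul]
  | add x y hx hy =>
    obtain ⟨x', hx'⟩ := hx
    obtain ⟨y', hy'⟩ := hy
    exact ⟨x' + y', by rw [map_add, hx', hy', TensorProduct.tmul_add, map_add]⟩

theorem exists_cosection {r : ℕ} {M L : Y.Modules} (hM : FlatMod.IsFinLocFreeOfRank r M)
    (hL : FlatMod.IsFinLocFreeOfRank 1 L) (τ : M ⟶ L) :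
    ∃ (N : Y.Modules) (t : N ⟶ Coh.structureModule Y), FlatMod.IsFinLocFreeOfRank r N ∧
      ∀ {T : Scheme.{u}} (h : T ⟶ Y), (Scheme.Modules.pullback h).map t = 0 ↔
        (Scheme.Modules.pullback h).map τ = 0 := by
  obtain ⟨D, hD, ⟨ε⟩⟩ := Groth.Agent.Grpsch.PicGrp.exists_inverse
    (Groth.Agent.Ega2.QCohLocal.isFinLocFreeOfRank_one_iff.1 hL)
  have hD' : FlatMod.IsFinLocFreeOfRank 1 D :=
    Groth.Agent.Ega2.QCohLocal.isFinLocFreeOfRank_one_iff.2 hD
  let ε' : CohB1.tensorMod D L ≅ Coh.structureModule Y := (tensorComm D L) ≪≫ ε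
  refine ⟨CohB1.tensorMod D M, tmap D τ ≫ ε'.hom, ?_, ?_⟩
  · have := isFinLocFreeOfRank_tensorMod hD' hM
    rwa [one_mul] at this
  intro T h
  rw [map_eq_zero_iff, map_eq_zero_iff]
  -- common local description
  have key : ∀ (y : Y) (U : Y.Opens), y ∈ U → ∃ (V : Y.Opens) (_ : V ≤ U) (_ : y ∈ V)
      (d : Sec D V) (e : Sec L V) (b : Fin r → Sec M V), Gen d ∧ Gen e ∧ IsLocBasis b ∧
      Gen (appS ε'.hom V (tau D L V (d ⊗ₜ[Γ(Y, V)] e))) := by
    intro y U hy
    obtain ⟨V₁, h₁, d, hd⟩ := exists_gen hD' y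
    obtain ⟨V₂, h₂, e, he⟩ := exists_gen hL y
    obtain ⟨V₃, h₃, hV₃⟩ := hM y
    obtain ⟨b, hb⟩ := nonempty_restrict_iso_iff.mp hV₃
    let V := (V₁ ⊓ V₂) ⊓ (V₃ ⊓ U)
    have l₁ : V ≤ V₁ := inf_le_left.trans inf_le_left
    have l₂ : V ≤ V₂ := inf_le_left.trans inf_le_right
    have l₃ : V ≤ V₃ := inf_le_right.trans inf_le_left
    refine ⟨V, inf_le_right.trans inf_le_right, ⟨⟨h₁, h₂⟩, ⟨h₃, hy⟩⟩, res D l₁ d, res L l₂ e,
      fun i => res M l₃ (b i), hd.restrict l₁, he.restrict l₂, hb.restrict l₃, ?_⟩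
    have h4 := (isLocBasis_tensor (hd.restrict l₁) (he.restrict l₂)).reindex
      (finProdFinEquiv (m := 1) (n := 1)).symm
    have h5 : IsLocBasis (M := CohB1.tensorMod D L) (U := V)
        (fun _ : Fin 1 => tau D L V (res D l₁ d ⊗ₜ[Γ(Y, V)] res L l₂ e)) := h4
    exact h5.of_iso ε'
  constructor
  · intro H U m
    apply pbS_eq_zero_of_locally
    intro y hy
    obtain ⟨V, hV, hyV, d, e, b, hd, he, hb, hε⟩ := key y U hy
    refine ⟨V, hV, hyV, ?_⟩
    obtain ⟨a, ha⟩ := he.exists_eq le_rfl (appS τ V (res M hV m))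
    rw [res_self] at ha
    rw [← appS_res, ha, he.pbS_smul_eq_zero_iff]
    have h1 := H V (tau D M V (d ⊗ₜ[Γ(Y, V)] res M hV m))
    rw [appS_comp, appS_tmap, TensorProduct.map_tmul, LinearMap.id_apply, ha,
      TensorProduct.tmul_smul, map_smul, map_smul, hε.pbS_smul_eq_zero_iff] at h1
    exact h1
  · intro H U s
    apply pbS_eq_zero_of_locally
    intro y hy
    obtain ⟨V, hV, hyV, d, e, b, hd, he, hb, hε⟩ := key y U hy
    refine ⟨V, hV, hyV, ?_⟩
    obtain ⟨x, hx⟩ := exists_tau_eq hd hb (res _ hV s)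
    obtain ⟨a, ha⟩ := he.exists_eq le_rfl (appS τ V x)
    rw [res_self] at ha
    have h1 := H V x
    rw [ha, he.pbS_smul_eq_zero_iff] at h1
    rw [← appS_res, hx, appS_comp, appS_tmap, TensorProduct.map_tmul, LinearMap.id_apply, ha,
      TensorProduct.tmul_smul, map_smul, map_smul, hε.pbS_smul_eq_zero_iff]
    exact h1

end Groth.Agent.Krr.H478.Cosection
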