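import Groth.Prelude.Def_KRR
import Mathlib.RingTheory.AdjoinRoot

/-!
# The functional of an elementary extension of a lambda-ring

Recursion for the coefficients `σ^i(e)` and for linear functionals on a `K`-algebra generated by a
root of `p_e`.
-/

set_option autoImplicit false
universe v u

namespace Groth.Agent.Krr.H478.Functional

open Finset LambdaRing

variable {K : Type v} [CommRing K] [LambdaOps K]

lemma constantCoeff_rescale_lamSeries (x : K) :
    PowerSeries.constantCoeff (PowerSeries.rescale (-1 : K) (lamSeries x)) = 1 := by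
  rw [← PowerSeries.coeff_zero_eq_constantCoeff_apply, PowerSeries.coeff_rescale]
  simp [lamSeries, LambdaOps.lam_zero]

lemma rescale_mul_sigmaSeries (x : K) :
    PowerSeries.rescale (-1 : K) (lamSeries x) * KRR.sigmaSeries x = 1 :=
  PowerSeries.mul_invOfUnit _ _ (by rw [constantCoeff_rescale_lamSeries]; rfl)

/-- `σ_t(e) λ_{-t}(e) = 1` in coefficients, positive degrees. -/
lemma sum_lam_sigma (e : K) (N : ℕ) (hN : 1 ≤ N) :
    ∑ i ∈ range (N + 1), (-1 : K) ^ i * LambdaOps.lam i e * KRR.sigma (N - i) e = 0 := by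
  have h := congrArg (PowerSeries.coeff N) (rescale_mul_sigmaSeries e)
  rw [PowerSeries.coeff_mul, Finset.Nat.sum_antidiagonal_eq_sum_range_succ_mk,
    PowerSeries.coeff_one, if_neg (by omega)] at h
  rw [← h]
  refine Finset.sum_congr rfl fun i _ => ?_
  simp [PowerSeries.coeff_rescale, lamSeries, KRR.sigma]

/-- `σ^0 = 1`. -/
lemma sigma_zero (e : K) : KRR.sigma 0 e = 1 := by
  have h := congrArg (PowerSeries.coeff 0) (rescale_mul_sigmaSeries e)
  rw [PowerSeries.coeff_mul, Finset.Nat.sum_antidiagonal_eq_sum_range_succ_mk] at h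
  simpa [PowerSeries.coeff_rescale, lamSeries, KRR.sigma, LambdaOps.lam_zero] using h

/-- The recursion truncated at `m`, when the `λ^i(e)` vanish for `i > m`. -/
lemma sum_lam_sigma_trunc (e : K) (m : ℕ) (hm : ∀ i, m < i → LambdaOps.lam i e = 0)
    (N : ℕ) (hN : 1 ≤ N) (hmN : m ≤ N) :
    ∑ i ∈ range (m + 1), (-1 : K) ^ i * LambdaOps.lam i e * KRR.sigma (N - i) e = 0 := by
  rw [← sum_lam_sigma e N hN]
  refine Finset.sum_subset (Finset.range_subset_range.mpr (by omega)) fun i _ hi => ?_
  rw [hm i (by simpa using hi)]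
  ring

variable {A : Type*} [CommRing A] [Algebra K A]

/-- A linear functional on an algebra with a root `ℓ` of the polynomial `p_e` which takes the
values `σ^i(e)` on the first powers of `ℓ` takes these values on all powers. -/
theorem functional_pow (e : K) (m : ℕ) (hm1 : 1 ≤ m) (hm : ∀ i, m < i → LambdaOps.lam i e = 0)
    (l : A) (hl : ∑ i ∈ range (m + 1), ((-1 : K) ^ i * LambdaOps.lam i e) • l ^ (m - i) = 0)
    (f : A →ₗ[K] K) (hf : ∀ i < m, f (l ^ i) = KRR.sigma i e) (i : ℕ) :
    f (l ^ i) = KRR.sigma i e := by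
  induction i using Nat.strong_induction_on with
  | _ N ih =>
    by_cases hN : N < m
    · exact hf N hN
    have h1 : ∑ i ∈ range (m + 1), ((-1 : K) ^ i * LambdaOps.lam i e) • l ^ (N - i) = 0 := by
      have h := congrArg (fun x => l ^ (N - m) * x) hl
      simp only [mul_zero, Finset.mul_sum] at h
      rw [← h]
      refine Finset.sum_congr rfl fun i hi => ?_
      rw [Finset.mem_range] at hi
      rw [mul_smul_comm, ← pow_add]
      congr 2
      omega
    have h2 := congrArg f h1
    rw [map_sum, map_zero] at h2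
    simp only [map_smul, smul_eq_mul] at h2
    have h3 := sum_lam_sigma_trunc e m hm N (by omega) (by omega)
    rw [Finset.sum_range_succ'] at h2 h3
    have h4 : ∀ k ∈ range m, (-1 : K) ^ (k + 1) * LambdaOps.lam (k + 1) e * f (l ^ (N - (k + 1))) =
        (-1 : K) ^ (k + 1) * LambdaOps.lam (k + 1) e * KRR.sigma (N - (k + 1)) e := by
      intro k hk
      rw [ih (N - (k + 1)) (by omega)]
    rw [Finset.sum_congr rfl h4] at h2
    simp only [pow_zero, LambdaOps.lam_zero, one_mul, Nat.sub_zero] at h2 h3
    have := h2.trans h3.symm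
    exact add_left_cancel this

/-- ... and it vanishes on the first negative powers of `ℓ`. -/
theorem functional_inv_pow (e : K) (m : ℕ) (hm1 : 1 ≤ m) (hu : IsUnit (LambdaOps.lam m e))
    (l : A) (hl : ∑ i ∈ range (m + 1), ((-1 : K) ^ i * LambdaOps.lam i e) • l ^ (m - i) = 0)
    (f : A →ₗ[K] K) (hf : ∀ i < m, f (l ^ i) = KRR.sigma i e)
    (linv : A) (hlinv : linv * l = 1) (n : ℕ) (hn : 1 ≤ n) (hnm : n < m) :
    f (linv ^ n) = 0 := by
  induction n using Nat.strong_induction_on with
  | _ n ih =>
    -- multiply the relation by `linv ^ n`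
    have key : ∀ i, i ≤ m - n → linv ^ n * l ^ (m - i) = l ^ (m - n - i) := by
      intro i hi
      have : m - i = n + (m - n - i) := by omega
      rw [this, pow_add, ← mul_assoc, ← mul_pow, hlinv, one_pow, one_mul]
    have key2 : ∀ i, m - n < i → i ≤ m → linv ^ n * l ^ (m - i) = linv ^ (n - (m - i)) := by
      intro i hi him
      have : linv ^ n = linv ^ (n - (m - i)) * linv ^ (m - i) := by
        rw [← pow_add]; congr 1; omega
      rw [this, mul_assoc, ← mul_pow, hlinv, one_pow, mul_one]
    have h := congrArg (fun x => f (linv ^ n * x)) hl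
    simp only [mul_zero, Finset.mul_sum, map_zero, map_sum, mul_smul_comm, map_smul,
      smul_eq_mul] at h
    have hsplit : m + 1 = (m - n + 1) + n := by omega
    have hN := sum_lam_sigma e (m - n) (by omega)
    rw [hsplit, Finset.sum_range_add] at h
    have e1 : ∑ i ∈ range (m - n + 1), (-1 : K) ^ i * LambdaOps.lam i e *
        f (linv ^ n * l ^ (m - i)) = 0 := by
      rw [← hN]
      refine Finset.sum_congr rfl fun i hi => ?_
      rw [Finset.mem_range] at hi
      rw [key i (by omega), hf _ (by omega)]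
    rw [e1, zero_add] at h
    obtain ⟨n, rfl⟩ : ∃ k, n = k + 1 := ⟨n - 1, by omega⟩
    rw [Finset.sum_range_succ, Finset.sum_eq_zero, zero_add] at h
    · have hmm : m - (n + 1) + 1 + n = m := by omega
      rw [hmm, key2 m (by omega) le_rfl] at h
      simp only [Nat.sub_self, Nat.sub_zero] at h
      have hu' : IsUnit ((-1 : K) ^ m * LambdaOps.lam m e) :=
        ((isUnit_one.neg).pow m).mul hu
      exact (hu'.mul_right_eq_zero).mp h
    · intro k hk
      rw [Finset.mem_range] at hk
      rw [key2 _ (by omega) (by omega), ih _ (by omega) (by omega) (by omega), mul_zero]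

/-- The canonical generator is a root of `p_e`. -/
lemma root_rel (P : PosStructure K) (e : K) (m : ℕ) (hm : (P.aug e).toNat = m) :
    ∑ i ∈ range (m + 1), ((-1 : K) ^ i * LambdaOps.lam i e) •
      (AdjoinRoot.root (KRR.extPoly P e)) ^ (m - i) = 0 := by
  have h : Polynomial.aeval (AdjoinRoot.root (KRR.extPoly P e))
      (∑ i ∈ range (m + 1), Polynomial.C ((-1 : K) ^ i * LambdaOps.lam i e) *
        Polynomial.X ^ (m - i)) = 0 := by
    subst hm
    have h := AdjoinRoot.aeval_eq (f := KRR.extPoly P e) (KRR.extPoly P e)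
    rw [AdjoinRoot.mk_self] at h
    exact h
  rw [map_sum] at h
  rw [← h]
  refine Finset.sum_congr rfl fun i _ => ?_
  rw [map_mul, Polynomial.aeval_C, map_pow, Polynomial.aeval_X, Algebra.smul_def]

end Groth.Agent.Krr.H478.Functional
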