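import Groth.Agent.Krr.H478.Cosection
import Groth.Agent.PerfA.IdealModule
import Groth.Agent.Fdesc.QCohStalk
import Mathlib.AlgebraicGeometry.Morphisms.ClosedImmersion

/-!
# The image ideal of a cosection

* `imIdeal hN t`: the quasi-coherent ideal image of `t : N ⟶ O`, `N` quasi-coherent.
* `imIdeal_le_ker_iff`: it is contained in the kernel of `h` iff `h^* t = 0`.
* `exists_factor`: `N ⟶ idealMod I` epimorphism when `I` is the image of `t`.
-/

set_option autoImplicit false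
universe u

open CategoryTheory CategoryTheory.Limits AlgebraicGeometry
open scoped TensorProduct

namespace Groth.Agent.Krr.H478.ImIdeal

open Groth.Agent.Sga67.Sec Groth.Agent.Sga67.LocBasis
open Groth.Agent.Krr.H487.LocBasisPull Groth.Agent.Sga67.TensorOps
open Groth.Agent.Krr.H478.Cosection

variable {Y T : Scheme.{u}}

/-- The image of a cosection on sections. -/
def rg {N : Y.Modules} (t : N ⟶ Coh.structureModule Y) (U : Y.Opens) : Ideal Γ(Y, U) where
  carrier := {a | ∃ s : Sec N U, toO (appS t U s) = a}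
  zero_mem' := ⟨0, by rw [map_zero]; rfl⟩
  add_mem' := by
    rintro _ _ ⟨s, rfl⟩ ⟨s', rfl⟩
    exact ⟨s + s', by rw [map_add]; rfl⟩
  smul_mem' := by
    rintro a _ ⟨s, rfl⟩
    exact ⟨a • s, by rw [map_smul]; rfl⟩

theorem mem_rg_iff {N : Y.Modules} (t : N ⟶ Coh.structureModule Y) {U : Y.Opens} (a : Γ(Y, U)) :
    a ∈ rg t U ↔ ∃ s : Sec N U, toO (appS t U s) = a := Iff.rfl

theorem rg_eq_span {N : Y.Modules} (t : N ⟶ Coh.structureModule Y) (U : Y.Opens) :
    rg t U = Ideal.span {a : Γ(Y, U) | ∃ s : Γ(N, U), (t.app U) s = a} := by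
  apply le_antisymm
  · rintro _ ⟨s, rfl⟩
    exact Ideal.subset_span ⟨s, rfl⟩
  · rw [Ideal.span_le]
    rintro _ ⟨s, rfl⟩
    exact ⟨s, rfl⟩

theorem map_rg {N : Y.Modules} (hN : Coh.IsQCoh N) (t : N ⟶ Coh.structureModule Y)
    (U : Y.affineOpens) (f : Γ(Y, U.1)) :
    (rg t U.1).map (resO Y (Y.basicOpen_le f)) = rg t (Y.basicOpen f) := by
  apply le_antisymm
  · rw [Ideal.map_le_iff_le_comap]
    rintro _ ⟨s, rfl⟩
    refine ⟨res N (Y.basicOpen_le f) s, ?_⟩
    rw [appS_res]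
    exact toO_res _ _
  · rintro _ ⟨s', rfl⟩
    obtain ⟨n, s, hs⟩ := Groth.Agent.Fdesc.QCohStalk.exists_map_eq_pow_smul N U.2 hN f s'
    have hs' : res N (Y.basicOpen_le f) s = (resO Y (Y.basicOpen_le f) f) ^ n • s' := hs
    have hu : IsUnit (resO Y (Y.basicOpen_le f) f) := RingedSpace.isUnit_res_basicOpen _ f
    rw [← Ideal.unit_mul_mem_iff_mem _ (hu.pow n)]
    have h1 : (resO Y (Y.basicOpen_le f) f) ^ n * toO (appS t (Y.basicOpen f) s') =
        resO Y (Y.basicOpen_le f) (toO (appS t U.1 s)) := by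
      rw [← toO_res, ← appS_res, hs', map_smul, toO_smul]
    rw [h1]
    exact Ideal.mem_map_of_mem _ ⟨s, rfl⟩

/-- The image ideal sheaf. -/
noncomputable def imIdeal {N : Y.Modules} (hN : Coh.IsQCoh N) (t : N ⟶ Coh.structureModule Y) :
    Y.IdealSheafData where
  ideal U := rg t U.1
  map_ideal_basicOpen U f := map_rg hN t U f

theorem ideal_imIdeal {N : Y.Modules} (hN : Coh.IsQCoh N) (t : N ⟶ Coh.structureModule Y)
    (U : Y.affineOpens) : (imIdeal hN t).ideal U = rg t U.1 := rfl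

theorem le_ker_iff (I : Y.IdealSheafData) (h : T ⟶ Y) :
    I ≤ h.ker ↔ ∀ U : Y.affineOpens, I.ideal U ≤ RingHom.ker (h.app U.1).hom := by
  rw [Scheme.Hom.ker, Scheme.IdealSheafData.le_ofIdeals_iff]
  rfl

theorem imIdeal_le_ker_iff {N : Y.Modules} (hN : Coh.IsQCoh N) (t : N ⟶ Coh.structureModule Y)
    (h : T ⟶ Y) : imIdeal hN t ≤ h.ker ↔ (Scheme.Modules.pullback h).map t = 0 := by
  have hg : ∀ U : Y.Opens, Gen (one Y U) := fun U => by
    have := IsLocBasis.restrict (isLocBasis_one (X := Y)) (le_top : U ≤ ⊤)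
    simpa only [res_one] using this
  have h1 : ∀ (U : Y.Opens) (s : Sec N U), pbS h _ (appS t U s) = 0 ↔
      h.app U (toO (appS t U s)) = 0 := by
    intro U s
    rw [← (hg U).pbS_smul_eq_zero_iff h, toO_smul_one]
  rw [le_ker_iff, map_eq_zero_iff]
  constructor
  · intro H U s
    apply pbS_eq_zero_of_locally
    intro y hy
    obtain ⟨_, ⟨V, hV, rfl⟩, hyV, hVU⟩ :=
      Y.isBasis_affineOpens.exists_subset_of_mem_open hy U.2
    refine ⟨V, hVU, hyV, ?_⟩
    rw [← appS_res, h1]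
    exact H ⟨V, hV⟩ ⟨res N hVU s, rfl⟩
  · intro H U
    rintro _ ⟨s, rfl⟩
    exact (h1 U.1 s).1 (H U.1 s)

/-- A cosection whose image is the ideal `I` factors through an epimorphism onto the module of `I`. -/
theorem exists_factor {N : Y.Modules} (t : N ⟶ Coh.structureModule Y) (I : Y.IdealSheafData)
    (hI : ∀ U : Y.affineOpens, I.ideal U = rg t U.1) :
    ∃ l : N ⟶ ClSub.idealMod I, Epi l ∧ l ≫ ClSub.idealModι I = t := by
  have h0 : t ≫ ClSub.toSubscheme I = 0 := by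
    apply hom_ext_of_locally
    intro x U hx
    obtain ⟨_, ⟨V, hV, rfl⟩, hxV, hVU⟩ := Y.isBasis_affineOpens.exists_subset_of_mem_open hx U.2
    refine ⟨V, hVU, hxV, fun s => ?_⟩
    have h1 : toO (appS t V s) ∈ I.ideal ⟨V, hV⟩ := by
      rw [hI]
      exact ⟨s, rfl⟩
    rw [← I.ker_subschemeι_app, RingHom.mem_ker] at h1
    exact h1
  let l : N ⟶ ClSub.idealMod I := kernel.lift (ClSub.toSubscheme I) t h0
  have hl : l ≫ ClSub.idealModι I = t := kernel.lift_ι _ _ _
  refine ⟨l, ?_, hl⟩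
  apply epi_of_locally_surjective
  intro U s x hx
  obtain ⟨_, ⟨V, hV, rfl⟩, hxV, hVU⟩ := Y.isBasis_affineOpens.exists_subset_of_mem_open hx U.2
  have h1 : Groth.Agent.PerfA.IdealModule.val I (res _ hVU s) ∈ I.ideal ⟨V, hV⟩ :=
    Groth.Agent.PerfA.IdealModule.val_mem I ⟨V, hV⟩ _
  rw [hI] at h1
  obtain ⟨n, hn⟩ := h1
  refine ⟨V, hVU, hxV, n, ?_⟩
  apply Groth.Agent.PerfA.IdealModule.val_injective I V
  refine Eq.trans ?_ hn
  rw [← hl]
  rfl

end Groth.Agent.Krr.H478.ImIdeal
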