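import Groth.Agent.Flat2H.SmoothSection
import Groth.Agent.Sga67.KosConormal
import Groth.Agent.Divis.RegImm
import Mathlib.AlgebraicGeometry.Morphisms.Smooth

/-!
# Sections of smooth morphisms of relative dimension `n`

A section `σ` of a morphism which is smooth of relative dimension `n` and is a closed immersion is a regular closed
immersion whose conormal module is finite locally free of rank `n`.
-/

set_option autoImplicit false

universe u v w

open CategoryTheory CategoryTheory.Limits AlgebraicGeometry TopologicalSpace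

namespace Groth.Agent.Krr.H478.SectSmooth

open RingTheory.Sequence

section alg

variable {A B : Type u} [CommRing A] [CommRing B] [Algebra A B]

/-- `Groth.Agent.Flat2H.SmoothSection.exists_regular_of_etale_of_section` with the length of the list. -/
theorem exists_regular_of_etale_of_section (n : ℕ) (g : MvPolynomial (Fin n) A →ₐ[A] B)
    (hg : g.toRingHom.Etale) (π : B →ₐ[A] A) :
    ∃ (c : B) (l : List B), l.length = n ∧ π c = 1 ∧ (∀ x ∈ l, π x = 0) ∧
      ∀ (Bg : Type w) [CommRing Bg] [Algebra B Bg]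
      (S : Submonoid B) [IsLocalization S Bg], c ∈ S →
      IsWeaklyRegular Bg (l.map (algebraMap B Bg)) ∧
        (RingHom.ker π).map (algebraMap B Bg) = Ideal.ofList (l.map (algebraMap B Bg)) := by
  classical
  -- translate the coordinates
  let a : Fin n → A := fun i => π (g (MvPolynomial.X i))
  let τ : MvPolynomial (Fin n) A →ₐ[A] MvPolynomial (Fin n) A :=
    MvPolynomial.aeval (fun i => MvPolynomial.X i - MvPolynomial.C (a i))
  let τ' : MvPolynomial (Fin n) A →ₐ[A] MvPolynomial (Fin n) A :=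
    MvPolynomial.aeval (fun i => MvPolynomial.X i + MvPolynomial.C (a i))
  have h12 : τ.comp τ' = AlgHom.id A _ := by
    ext i
    simp [τ, τ', MvPolynomial.algebraMap_eq]
  have h21 : τ'.comp τ = AlgHom.id A _ := by
    ext i
    simp [τ, τ', MvPolynomial.algebraMap_eq]
  let e : MvPolynomial (Fin n) A ≃ₐ[A] MvPolynomial (Fin n) A := AlgEquiv.ofAlgHom τ τ' h12 h21
  let g' : MvPolynomial (Fin n) A →ₐ[A] B := g.comp τ
  have hg' : g'.toRingHom.Etale := by
    have he : (e : MvPolynomial (Fin n) A →+* MvPolynomial (Fin n) A).Etale :=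
      RingHom.Etale.of_bijective e.bijective
    exact RingHom.Etale.stableUnderComposition (e : MvPolynomial (Fin n) A →+* MvPolynomial (Fin n) A)
      (g : MvPolynomial (Fin n) A →+* B) he hg
  let x : Fin n → B := fun i => g' (MvPolynomial.X i)
  have hx : ∀ i, π (x i) = 0 := by
    intro i
    simp [x, g', τ, a]
  let P := MvPolynomial (Fin n) A
  let J : Ideal B := Ideal.span (Set.range x)
  have hJ : J ≤ RingHom.ker π := by
    refine Ideal.span_le.2 ?_
    rintro _ ⟨i, rfl⟩
    exact hx i
  let _ : Algebra P B := g'.toRingHom.toAlgebra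
  have : IsScalarTower A P B := IsScalarTower.of_algebraMap_eq' g'.comp_algebraMap.symm
  have : Algebra.Etale P B := hg'
  let z : P →ₐ[A] A := MvPolynomial.aeval (fun _ => (0 : A))
  have hzC : ∀ r, z (MvPolynomial.C r) = r := fun r => MvPolynomial.aeval_C _ r
  have hzX : ∀ i, z (MvPolynomial.X i) = 0 := fun i => MvPolynomial.aeval_X _ i
  let _ : Algebra P A := z.toRingHom.toAlgebra
  have : IsScalarTower P A (B ⧸ J) := by
    refine IsScalarTower.of_algebraMap_eq' ?_
    refine MvPolynomial.ringHom_ext ?_ ?_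
    · intro r
      have h1 : algebraMap P A (MvPolynomial.C r) = r := hzC r
      have h2 : algebraMap P (B ⧸ J) (MvPolynomial.C r) = algebraMap A (B ⧸ J) r := by
        rw [← MvPolynomial.algebraMap_eq, ← IsScalarTower.algebraMap_apply A P (B ⧸ J)]
      rw [RingHom.comp_apply, h1, h2]
    · intro i
      have h1 : algebraMap P A (MvPolynomial.X i) = 0 := hzX i
      have h2 : algebraMap P (B ⧸ J) (MvPolynomial.X i) = 0 := by
        rw [IsScalarTower.algebraMap_apply P B (B ⧸ J)]
        exact Ideal.Quotient.eq_zero_iff_mem.2 (Ideal.subset_span ⟨i, rfl⟩)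
      rw [RingHom.comp_apply, h1, h2, map_zero]
  have : Algebra.FormallyUnramified B (B ⧸ J) :=
    Algebra.FormallyUnramified.of_surjective (Algebra.ofId B (B ⧸ J)) Ideal.Quotient.mk_surjective
  have : Algebra.FormallyUnramified P (B ⧸ J) := Algebra.FormallyUnramified.comp P B (B ⧸ J)
  have : Algebra.FormallyUnramified A (B ⧸ J) := Algebra.FormallyUnramified.of_restrictScalars P A (B ⧸ J)
  have : Algebra.FinitePresentation A B := Algebra.FinitePresentation.trans A P B
  have : Algebra.FinitePresentation A (B ⧸ J) :=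
    Algebra.FinitePresentation.quotient (Submodule.fg_span (Set.finite_range x))
  let ρ : (B ⧸ J) →ₐ[A] A := Ideal.Quotient.liftₐ J π (fun b hb => hJ hb)
  obtain ⟨e₀, he₀, hker⟩ := Groth.Agent.Flat2H.SmoothSection.exists_idempotent_of_section ρ
  obtain ⟨e', rfl⟩ := Ideal.Quotient.mk_surjective e₀
  have hπe : π e' = 0 := by
    have : ρ (Ideal.Quotient.mk J e') = 0 := by
      rw [← RingHom.mem_ker, hker]
      exact Ideal.mem_span_singleton_self _
    exact this
  have hmul : ∀ b ∈ RingHom.ker π, (1 - e') * b ∈ J := by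
    intro b hb
    have h1 : Ideal.Quotient.mk J b ∈ RingHom.ker ρ := hb
    rw [hker, Ideal.mem_span_singleton'] at h1
    obtain ⟨c, hc⟩ := h1
    rw [← Ideal.Quotient.eq_zero_iff_mem, map_mul, ← hc, map_sub, map_one]
    have : (1 - Ideal.Quotient.mk J e') * (c * Ideal.Quotient.mk J e') =
      c * (Ideal.Quotient.mk J e' - Ideal.Quotient.mk J e' * Ideal.Quotient.mk J e') := by ring
    rw [this, he₀.eq, sub_self, mul_zero]
  have hlist : Ideal.ofList (List.ofFn x) = J := by
    unfold Ideal.ofList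
    congr 1
    ext y
    simp [List.mem_ofFn]
  refine ⟨1 - e', List.ofFn x, List.length_ofFn, by rw [map_sub, map_one, hπe, sub_zero], ?_, ?_⟩
  · intro y hy
    obtain ⟨i, rfl⟩ := List.mem_ofFn.1 hy
    exact hx i
  · intro Bg _ _ S _ hc
    refine ⟨?_, ?_⟩
    · let _ : Algebra P Bg := ((algebraMap B Bg).comp (algebraMap P B)).toAlgebra
      have : IsScalarTower P B Bg := IsScalarTower.of_algebraMap_eq' rfl
      have : Module.Flat B Bg := IsLocalization.flat Bg S
      have : Module.Flat P Bg := Module.Flat.trans P B Bg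
      have := IsWeaklyRegular.of_flat (S := Bg)
        (Groth.Agent.Flat2H.SmoothSection.isWeaklyRegular_X A n)
      rw [List.map_ofFn] at this ⊢
      exact this
    · rw [← Ideal.map_ofList, hlist]
      refine le_antisymm ?_ (Ideal.map_mono hJ)
      rw [Ideal.map_le_iff_le_comap]
      intro b hb
      have h1 := Ideal.mem_map_of_mem (algebraMap B Bg) (hmul b hb)
      rw [map_mul] at h1
      exact (Ideal.unit_mul_mem_iff_mem _ (IsLocalization.map_units Bg (⟨_, hc⟩ : S))).1 h1

/-- The ideal of a section of a standard smooth algebra of relative dimension `n` is generated by a weakly regular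
sequence of length `n` after inverting an element which is `1` on the section. -/
theorem exists_regular_of_isStandardSmooth_of_section {n : ℕ}
    (h : (algebraMap A B).IsStandardSmoothOfRelativeDimension n) (π : B →ₐ[A] A) :
    ∃ (c : B) (l : List B), l.length = n ∧ π c = 1 ∧ (∀ x ∈ l, π x = 0) ∧
      ∀ (Bg : Type w) [CommRing Bg] [Algebra B Bg]
      (S : Submonoid B) [IsLocalization S Bg], c ∈ S →
      IsWeaklyRegular Bg (l.map (algebraMap B Bg)) ∧
        (RingHom.ker π).map (algebraMap B Bg) = Ideal.ofList (l.map (algebraMap B Bg)) := by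
  obtain ⟨g, hgC, hg⟩ := RingHom.IsStandardSmoothOfRelativeDimension.exists_etale_mvPolynomial h
  let g' : MvPolynomial (Fin n) A →ₐ[A] B := ⟨g, fun a => DFunLike.congr_fun hgC a⟩
  exact exists_regular_of_etale_of_section n g' hg π

end alg

section geom

open Groth.Agent.Sga67.KosImm Groth.Agent.Sga67.KosConormal

/-- A chart of length `n` of a section of a smooth morphism of relative dimension `n`. -/
theorem exists_chart_of_section {X S : Scheme.{u}} (n : ℕ) (f : X ⟶ S)
    [SmoothOfRelativeDimension n f] (σ : S ⟶ X)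
    (hσ : σ ≫ f = 𝟙 S) [IsClosedImmersion σ] (z : S) :
    ∃ c : Chart σ, σ z ∈ c.U ∧ c.l.length = n := by
  have hfσ : ∀ y : S, f (σ y) = y := by
    intro y
    rw [← Scheme.Hom.comp_apply, hσ]
    rfl
  obtain ⟨V, hV, U, hU, hxU, e, hstd⟩ :=
    SmoothOfRelativeDimension.exists_isStandardSmoothOfRelativeDimension (n := n) (f := f) (σ z)
  have hzV : z ∈ V := by
    have := e hxU
    rw [← hfσ z]
    exact this
  obtain ⟨a, ha, hza⟩ := hV.exists_basicOpen_le (V := σ ⁻¹ᵁ U) ⟨z, hxU⟩ hzV
  -- the small pair of affine opens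
  have hV' : IsAffineOpen (S.basicOpen a) := hV.basicOpen a
  have hU' : IsAffineOpen (X.basicOpen (f.appLE V U e a)) := hU.basicOpen _
  have hU'eq : X.basicOpen (f.appLE V U e a) = U ⊓ f ⁻¹ᵁ (S.basicOpen a) := Scheme.basicOpen_appLE f U V e a
  have e' : X.basicOpen (f.appLE V U e a) ≤ f ⁻¹ᵁ (S.basicOpen a) := by
    rw [hU'eq]; exact inf_le_right
  have hstd' : (f.appLE (S.basicOpen a) (X.basicOpen (f.appLE V U e a))
      e').hom.IsStandardSmoothOfRelativeDimension n := by
    let _ := hV.isLocalization_basicOpen a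
    let _ := hU.isLocalization_basicOpen (f.appLE V U e a)
    rw [IsAffineOpen.appLE_eq_away_map f hV hU e a]
    have h1 : RingHom.LocalizationAwayPreserves (@RingHom.IsStandardSmoothOfRelativeDimension n) :=
      (RingHom.isStandardSmoothOfRelativeDimension_localizationPreserves n).away
    exact h1 _ a _ _ hstd
  generalize f.appLE V U e a = a' at hU' hU'eq e' hstd'
  generalize S.basicOpen a = V' at *
  generalize X.basicOpen a' = U' at *
  have e₂ : V' ≤ σ ⁻¹ᵁ U' := by
    intro y hy
    change σ y ∈ U'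
    rw [hU'eq]
    exact ⟨ha hy, by change f (σ y) ∈ V'; rwa [hfσ]⟩
  have e₃ : σ ⁻¹ᵁ U' ≤ V' := by
    intro y hy
    have : σ y ∈ U' := hy
    rw [hU'eq] at this
    have h2 : f (σ y) ∈ V' := this.2
    rwa [hfσ] at h2
  have hid : f.appLE V' U' e' ≫ σ.appLE U' V' e₂ = 𝟙 _ := by
    rw [Scheme.Hom.appLE_comp_appLE]
    have h1 : ∀ (g : S ⟶ S) (_ : g = 𝟙 S) (h : V' ≤ g ⁻¹ᵁ V'), g.appLE V' V' h = 𝟙 _ := by
      rintro _ rfl h
      rw [Scheme.Hom.appLE, Scheme.Hom.id_app]
      exact (Category.id_comp _).trans (S.presheaf.map_id _)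
    exact h1 _ hσ _
  let _ : Algebra Γ(S, V') Γ(X, U') := (f.appLE V' U' e').hom.toAlgebra
  let π : Γ(X, U') →ₐ[Γ(S, V')] Γ(S, V') :=
    ⟨(σ.appLE U' V' e₂).hom, fun r => by
      have := congr(($hid).hom r)
      exact this⟩
  obtain ⟨c, l, hlen, hc, -, hl⟩ := exists_regular_of_isStandardSmooth_of_section hstd' π
  have hker : σ.ker.ideal ⟨U', hU'⟩ = RingHom.ker π := by
    rw [Scheme.Hom.ker_apply]
    ext b
    rw [RingHom.mem_ker, RingHom.mem_ker]
    change (σ.app U').hom b = 0 ↔ (σ.appLE U' V' e₂).hom b = 0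
    have h2 : σ ⁻¹ᵁ U' = V' := le_antisymm e₃ e₂
    subst h2
    rw [Scheme.Hom.appLE_eq_app]
  have hzU' : σ z ∈ U' := e₂ hza
  have hzc : σ z ∈ X.basicOpen c := by
    have h3 : S.basicOpen (σ.appLE U' V' e₂ c) = V' ⊓ σ ⁻¹ᵁ (X.basicOpen c) := Scheme.basicOpen_appLE σ V' U' e₂ c
    have h4 : σ.appLE U' V' e₂ c = 1 := hc
    rw [h4, S.basicOpen_of_isUnit isUnit_one] at h3
    have h5 : z ∈ V' ⊓ σ ⁻¹ᵁ (X.basicOpen c) := h3 ▸ hza
    exact h5.2
  have hloc := hU'.isLocalization_basicOpen c
  obtain ⟨h1, h2⟩ := hl Γ(X, X.basicOpen c) (Submonoid.powers c) (Submonoid.mem_powers c)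
  refine ⟨⟨X.basicOpen c, hU'.basicOpen c, _, h1, ?_⟩, hzc, by simpa using hlen⟩
  rw [← h2, ← hker]
  exact (σ.ker.map_ideal (U := ⟨X.basicOpen c, hU'.basicOpen c⟩) (V := ⟨U', hU'⟩) (X.basicOpen_le c)).symm

/-- The conormal module of a section (and closed immersion) of a smooth morphism of relative dimension `n` is
finite locally free of rank `n`. -/
theorem isFinLocFreeOfRank_conormal {X S : Scheme.{u}} (n : ℕ) (f : X ⟶ S)
    [SmoothOfRelativeDimension n f] (σ : S ⟶ X) (hσ : σ ≫ f = 𝟙 S) [IsClosedImmersion σ] :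
    FlatMod.IsFinLocFreeOfRank n (Omega.conormal σ) := by
  intro z
  obtain ⟨c, hz, rfl⟩ := exists_chart_of_section n f σ hσ z
  exact ⟨c.V, hz, Groth.Agent.Sga67.LocBasis.nonempty_restrict_iso_iff.mpr ⟨_, isLocBasis_fN c⟩⟩

/-- A section of a smooth morphism of relative dimension `n` which is a closed immersion is regular. -/
theorem isRegularClosedImmersion {X S : Scheme.{u}} (n : ℕ) (f : X ⟶ S)
    [SmoothOfRelativeDimension n f] (σ : S ⟶ X) (hσ : σ ≫ f = 𝟙 S) [IsClosedImmersion σ] :
    Mor2.IsRegularClosedImmersion σ := by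
  rw [Groth.Agent.Divis.RegImm.isRegularClosedImmersion_iff]
  refine ⟨inferInstance, fun z => ?_⟩
  obtain ⟨c, hz, -⟩ := exists_chart_of_section n f σ hσ z
  exact ⟨⟨c.U, c.hU⟩, hz, c.l, c.hl, c.hker⟩

end geom

end Groth.Agent.Krr.H478.SectSmooth
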