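import Groth.Prelude.Def_KRR
import Groth.Agent.Fga.QuotPull
import Groth.Agent.Krr.H478.EpiIso
import Groth.Agent.PerfB.FibreConc

/-!
# A section of a projective bundle as a zero locus

`π : P ⟶ X` a projective bundle of `E` with quotient `q : π^* E ⟶ O(1)`, `s : X ⟶ P` a section.
`H` is the kernel of `E = 1^* E ⟶ s^* O(1)`, `tau : π^* H ⟶ O(1)` the induced morphism.  Then `s^* tau = 0`, and
any `h : T ⟶ P` with `h^* tau = 0` is equal to `h ≫ π ≫ s`.
-/

set_option autoImplicit false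
set_option backward.isDefEq.respectTransparency false
universe u

open CategoryTheory CategoryTheory.Limits AlgebraicGeometry

namespace Groth.Agent.Krr.H478.SectTri

open Groth.Agent.Fga.SubPull Groth.Agent.Fga.QuotPull
open AlgebraicGeometry.Scheme.Modules

variable {X P T : Scheme.{u}} {π : P ⟶ X} {E : X.Modules} {O1 : P.Modules}
  (q : (Scheme.Modules.pullback π).obj E ⟶ O1)

/-- The quotient of `g^* E` attached to `h : T ⟶ P` over `g`. -/
noncomputable def sur (h : T ⟶ P) (g : T ⟶ X) (hg : h ≫ π = g) :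
    (Scheme.Modules.pullback g).obj E ⟶ (Scheme.Modules.pullback h).obj O1 :=
  (tri h π g hg E).inv ≫ (Scheme.Modules.pullback h).map q

lemma sur_eq (h : T ⟶ P) (g : T ⟶ X) (hg : h ≫ π = g) :
    (pullbackCongr hg).inv.app E ≫ (pullbackComp h π).inv.app E ≫
      (Scheme.Modules.pullback h).map q = sur q h g hg := by
  rw [sur, tri_def]
  simp

instance epi_sur [Epi q] (h : T ⟶ P) (g : T ⟶ X) (hg : h ≫ π = g) : Epi (sur q h g hg) := by
  have : Epi ((Scheme.Modules.pullback h).map q) := inferInstance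
  exact epi_comp _ _

variable (s : X ⟶ P) (hs : s ≫ π = 𝟙 X)

/-- The kernel of the quotient attached to a section. -/
noncomputable def H : X.Modules := kernel (sur q s (𝟙 X) hs)

/-- Its inclusion. -/
noncomputable def ι : H q s hs ⟶ (Scheme.Modules.pullback (𝟙 X)).obj E := kernel.ι (sur q s (𝟙 X) hs)

lemma ι_sur : ι q s hs ≫ sur q s (𝟙 X) hs = 0 := kernel.condition _

/-- The morphism `π^* H ⟶ O(1)`. -/
noncomputable def tau : (Scheme.Modules.pullback π).obj (H q s hs) ⟶ O1 :=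
  (Scheme.Modules.pullback π).map (ι q s hs) ≫ (tri π (𝟙 X) π (Category.comp_id π) E).hom ≫ q

lemma map_sur (g : T ⟶ X) (hg : (g ≫ s) ≫ π = g) :
    (Scheme.Modules.pullback g).map (sur q s (𝟙 X) hs) =
      (tri g (𝟙 X) g (Category.comp_id g) E).hom ≫ sur q (g ≫ s) g hg ≫
        (pullbackComp g s).inv.app O1 := by
  have key := tri_comp g s (g ≫ s) π (𝟙 X) g rfl hs (Category.comp_id g) hg E
  unfold CompatIso at key
  rw [cong_rfl, Category.id_comp] at key
  have : IsIso ((Scheme.Modules.pullback g).map (tri s π (𝟙 X) hs E).hom) := inferInstance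
  rw [← cancel_epi ((Scheme.Modules.pullback g).map (tri s π (𝟙 X) hs E).hom), reassoc_of% key, sur, sur,
    ← Functor.map_comp, Iso.hom_inv_id_assoc]
  simp only [Category.assoc, Iso.hom_inv_id_assoc]
  have nat := (pullbackComp g s).inv.naturality q
  rw [nat, Iso.hom_inv_id_app_assoc]
  rfl

lemma map_tau (h : T ⟶ P) :
    (Scheme.Modules.pullback h).map (tau q s hs) =
      (pullbackComp h π).hom.app (H q s hs) ≫ (Scheme.Modules.pullback (h ≫ π)).map (ι q s hs) ≫
        (tri (h ≫ π) (𝟙 X) (h ≫ π) (Category.comp_id _) E).hom ≫ sur q h (h ≫ π) rfl := by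
  have key := tri_comp h π (h ≫ π) (𝟙 X) π (h ≫ π) rfl (Category.comp_id π) rfl
    (Category.comp_id _) E
  unfold CompatIso at key
  rw [cong_rfl, Category.id_comp] at key
  have nat := (pullbackComp h π).hom.naturality (ι q s hs)
  have e1 : (Scheme.Modules.pullback h).map q = (tri h π (h ≫ π) rfl E).hom ≫ sur q h (h ≫ π) rfl := by
    rw [sur, Iso.hom_inv_id_assoc]
  rw [tau, Functor.map_comp, Functor.map_comp, e1, reassoc_of% key]
  exact (reassoc_of% nat) _

lemma map_tau_eq_zero_iff (h : T ⟶ P) :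
    (Scheme.Modules.pullback h).map (tau q s hs) = 0 ↔
      (Scheme.Modules.pullback (h ≫ π)).map (ι q s hs) ≫
        (tri (h ≫ π) (𝟙 X) (h ≫ π) (Category.comp_id _) E).hom ≫ sur q h (h ≫ π) rfl = 0 := by
  rw [map_tau]
  constructor
  · intro h0
    rwa [← cancel_epi ((pullbackComp h π).hom.app (H q s hs)), comp_zero]
  · intro h0
    rw [h0, comp_zero]

/-- `g^* E ⟶ g^* s^* O(1)` is a cokernel of `g^* H ⟶ g^* E`. -/
noncomputable def cok [Epi q] (g : T ⟶ X) : IsColimit (CokernelCofork.ofπ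
    ((Scheme.Modules.pullback g).map (sur q s (𝟙 X) hs))
    (f := (Scheme.Modules.pullback g).map (ι q s hs))
    (by rw [← Functor.map_comp, ι_sur, Functor.map_zero])) :=
  isColimitCoforkMapOfIsColimit' (Scheme.Modules.pullback g) (ι_sur q s hs)
    (Abelian.epiIsCokernelOfKernel (KernelFork.ofι (kernel.ι (sur q s (𝟙 X) hs)) (kernel.condition _))
      (kernelIsKernel (sur q s (𝟙 X) hs)))

/-- **Vanishing implies factorization through the section.** -/
theorem eq_of_map_tau (hPB : KRR.IsProjBundle π E O1 q) (h : T ⟶ P)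
    (h0 : (Scheme.Modules.pullback h).map (tau q s hs) = 0) : h = (h ≫ π) ≫ s := by
  have : Epi q := hPB.epi
  rw [map_tau_eq_zero_iff] at h0
  have hg : ((h ≫ π) ≫ s) ≫ π = h ≫ π := by rw [Category.assoc, hs, Category.comp_id]
  let v := CokernelCofork.IsColimit.desc' (cok q s hs (h ≫ π))
    ((tri (h ≫ π) (𝟙 X) (h ≫ π) (Category.comp_id _) E).hom ≫ sur q h (h ≫ π) rfl) h0
  have hv : (Scheme.Modules.pullback (h ≫ π)).map (sur q s (𝟙 X) hs) ≫ v.1 =
      (tri (h ≫ π) (𝟙 X) (h ≫ π) (Category.comp_id _) E).hom ≫ sur q h (h ≫ π) rfl := v.2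
  generalize v.1 = w at hv
  have hwepi : Epi w := by
    have h1 : Epi ((tri (h ≫ π) (𝟙 X) (h ≫ π) (Category.comp_id _) E).hom ≫ sur q h (h ≫ π) rfl) :=
      epi_comp _ _
    rw [← hv] at h1
    exact epi_of_epi ((Scheme.Modules.pullback (h ≫ π)).map (sur q s (𝟙 X) hs)) w
  have hinv : ∀ {Y' : Scheme.{u}} (f : Y' ⟶ P), FlatMod.IsFinLocFreeOfRank 1
      ((Scheme.Modules.pullback f).obj O1) := fun f =>
    Groth.Agent.PerfB.FibreConc.isFinLocFreeOfRank_pullback f hPB.invertible
  have hinv' : ∀ {Y' : Scheme.{u}} (f : Y' ⟶ X), FlatMod.IsFinLocFreeOfRank 1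
      ((Scheme.Modules.pullback f).obj ((Scheme.Modules.pullback s).obj O1)) := fun f =>
    Groth.Agent.PerfB.FibreConc.isFinLocFreeOfRank_pullback f (hinv s)
  have hw : IsIso w := EpiIso.isIso_of_epi w (hinv' _) (hinv _)
  let e : (Scheme.Modules.pullback ((h ≫ π) ≫ s)).obj O1 ≅ (Scheme.Modules.pullback h).obj O1 :=
    ((pullbackComp (h ≫ π) s).app O1).symm ≪≫ asIso w
  have he : sur q ((h ≫ π) ≫ s) (h ≫ π) hg ≫ e.hom = sur q h (h ≫ π) rfl := by
    have h1 := map_sur q s hs (h ≫ π) hg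
    rw [h1] at hv
    rw [← cancel_epi (tri (h ≫ π) (𝟙 X) (h ≫ π) (Category.comp_id _) E).hom, ← hv]
    simp [e]
  obtain ⟨h', -, huniq⟩ := hPB.univ T (h ≫ π) _ (hinv h) (sur q h (h ≫ π) rfl) inferInstance
  have h1 := huniq h ⟨rfl, Iso.refl _, by
    rw [Iso.refl_hom, Category.comp_id, sur_eq]⟩
  have h2 := huniq ((h ≫ π) ≫ s) ⟨hg, e, by
    rw [← he, ← sur_eq]
    simp only [Category.assoc]⟩
  exact h1.trans h2.symm

/-- The morphism vanishes on the section. -/
theorem map_tau_section : (Scheme.Modules.pullback s).map (tau q s hs) = 0 := by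
  rw [map_tau_eq_zero_iff]
  have H : ∀ (g : X ⟶ X) (hg : s ≫ π = g) (hg' : g = 𝟙 X),
      (Scheme.Modules.pullback g).map (ι q s hs) ≫
        (tri g (𝟙 X) g (Category.comp_id _) E).hom ≫ sur q s g hg = 0 := by
    rintro g hg rfl
    rw [tri_id]
    have nat := (pullbackId X).hom.naturality (ι q s hs)
    have : sur q s (𝟙 X) hg = sur q s (𝟙 X) hs := rfl
    rw [← Category.assoc, nat, this, Category.assoc]
    simp only [Functor.id_map]
    rw [ι_sur, comp_zero]
  exact H (s ≫ π) rfl hs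

end Groth.Agent.Krr.H478.SectTri
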