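import Groth.Agent.Krr.H478.SectTri
import Groth.Agent.Krr.H478.ImIdeal
import Groth.Agent.Krr.H478.SectSmooth
import Groth.Agent.Krr.H487.KerRank
import Groth.Agent.Krr.H484.PBCharts
import Groth.Agent.Sga5.ProjSmooth
import Groth.Agent.Ega3B.ProjProper

/-!
# Sections of projective bundles

`π : P ⟶ X` a projective bundle of `E` of rank `r + 1` (`X` quasi-compact), `s` a section.

* `smoothOfRelativeDimension`, `isProper`: `π` is smooth of relative dimension `r` and proper.
* `exists_zero`: `s` is a closed immersion and is the zero scheme of a cosection `t : N ⟶ O_P` of a finite locally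
  free module of rank `r`.
* `isRegularClosedImmersion`, `isFinLocFreeOfRank_conormal`, `nonempty_conormal_iso`.
-/

set_option autoImplicit false
universe u

open CategoryTheory CategoryTheory.Limits AlgebraicGeometry

namespace Groth.Agent.Krr.H478.SectZero

open Groth.Agent.Krr.H478

section Local

variable {X P : Scheme.{u}} {π : P ⟶ X} {E : X.Modules} {O1 : P.Modules}
  {q : (Scheme.Modules.pullback π).obj E ⟶ O1} {r : ℕ}

/-- A property local on the target, stable under isomorphisms, holds for `π` if it holds for the projections of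
projective spaces over rings. -/
theorem of_charts [CompactSpace X] (hE : FlatMod.IsFinLocFreeOfRank (r + 1) E)
    (hPB : KRR.IsProjBundle π E O1 q) (W : MorphismProperty Scheme.{u}) [IsZariskiLocalAtTarget W]
    (hW : ∀ (A : Type u) [CommRing A], W (CohB1.ProjSpace.toSpec r A)) : W π := by
  obtain ⟨ι, _, A, _, h, j, hop, hcov, hpb, -⟩ := Groth.Agent.Krr.H484.PBCharts.exists_charts hE hPB
  let 𝒰 : X.OpenCover := Scheme.Cover.mkOfCovers ι (fun i => Spec (CommRingCat.of (A i))) h
    (fun x => by
      obtain ⟨i, y, hy⟩ := hcov x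
      exact ⟨i, y, hy⟩) (fun i => hop i)
  rw [IsZariskiLocalAtTarget.iff_of_openCover (P := W) 𝒰]
  intro i
  have h1 : pullback.snd π (h i) = (hpb i).isoPullback.inv ≫ CohB1.ProjSpace.toSpec r (A i) :=
    (hpb i).isoPullback_inv_snd.symm
  have h2 : W (pullback.snd π (h i)) := by
    rw [h1, MorphismProperty.cancel_left_of_respectsIso W]
    exact hW (A i)
  exact h2

theorem smoothOfRelativeDimension [CompactSpace X] (hE : FlatMod.IsFinLocFreeOfRank (r + 1) E)
    (hPB : KRR.IsProjBundle π E O1 q) : SmoothOfRelativeDimension r π :=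
  of_charts hE hPB (@SmoothOfRelativeDimension r) fun _ _ => inferInstance

theorem isProper [CompactSpace X] (hE : FlatMod.IsFinLocFreeOfRank (r + 1) E)
    (hPB : KRR.IsProjBundle π E O1 q) : IsProper π :=
  of_charts hE hPB @IsProper fun A _ => Groth.Agent.Ega3B.ProjProper.isProper_toSpec r A

end Local

section Zero

variable {X P : Scheme.{u}} {π : P ⟶ X} {E : X.Modules} {O1 : P.Modules}
  {q : (Scheme.Modules.pullback π).obj E ⟶ O1} {r : ℕ}

/-- **A section of a projective bundle is the zero scheme of a cosection.** -/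
theorem exists_zero (hE : FlatMod.IsFinLocFreeOfRank (r + 1) E) (hPB : KRR.IsProjBundle π E O1 q)
    (s : X ⟶ P) (hs : s ≫ π = 𝟙 X) :
    IsClosedImmersion s ∧ ∃ (N : P.Modules) (t : N ⟶ Coh.structureModule P),
      FlatMod.IsFinLocFreeOfRank r N ∧ ∀ U : P.affineOpens, s.ker.ideal U = ImIdeal.rg t U.1 := by
  have hepi : Epi q := hPB.epi
  have hH : FlatMod.IsFinLocFreeOfRank r (SectTri.H q s hs) :=
    Groth.Agent.Krr.H487.KerRank.isFinLocFreeOfRank_kernel (r := r) (m := 1) _
      (Groth.Agent.PerfB.FibreConc.isFinLocFreeOfRank_pullback _ hE)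
      (Groth.Agent.PerfB.FibreConc.isFinLocFreeOfRank_pullback _ hPB.invertible)
  obtain ⟨N, t, hN, ht⟩ := Cosection.exists_cosection
    (Groth.Agent.PerfB.FibreConc.isFinLocFreeOfRank_pullback π hH) hPB.invertible
    (SectTri.tau q s hs)
  have hNq : Coh.IsQCoh N := Groth.Agent.Ega2.QCohLocal.isQCoh_of_isFinLocFree
    (Groth.Agent.Ega2.QCohLocal.isFinLocFree_of_rank hN)
  let I := ImIdeal.imIdeal hNq t
  have h1 : (Scheme.Modules.pullback I.subschemeι).map (SectTri.tau q s hs) = 0 := by
    rw [← ht, ← ImIdeal.imIdeal_le_ker_iff hNq t, I.ker_subschemeι]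
  have h2 := SectTri.eq_of_map_tau q s hs hPB I.subschemeι h1
  have h3 : I ≤ s.ker := by
    rw [ImIdeal.imIdeal_le_ker_iff hNq t, ht]
    exact SectTri.map_tau_section q s hs
  have h3' : I.subschemeι.ker ≤ s.ker := by rw [I.ker_subschemeι]; exact h3
  let s' : X ⟶ I.subscheme := IsClosedImmersion.lift I.subschemeι s h3'
  have hs' : s' ≫ I.subschemeι = s := IsClosedImmersion.lift_fac _ _ _
  have e1 : s' ≫ (I.subschemeι ≫ π) = 𝟙 X := by rw [← Category.assoc, hs', hs]
  have e2 : (I.subschemeι ≫ π) ≫ s' = 𝟙 _ := by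
    rw [← cancel_mono I.subschemeι, Category.assoc, hs', Category.id_comp]
    exact h2.symm
  have hiso : IsIso s' := ⟨⟨I.subschemeι ≫ π, e1, e2⟩⟩
  have hcl : IsClosedImmersion s := by
    rw [← hs']
    infer_instance
  have hker : s.ker = I := by
    apply le_antisymm _ h3
    have h4 : inv s' ≫ s = I.subschemeι := by rw [IsIso.inv_comp_eq, hs']
    rw [← I.ker_subschemeι, ← h4]
    exact Scheme.Hom.le_ker_comp _ _
  refine ⟨hcl, N, t, hN, fun U => ?_⟩
  rw [hker]
  rfl

variable [CompactSpace X]

theorem isRegularClosedImmersion (hE : FlatMod.IsFinLocFreeOfRank (r + 1) E)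
    (hPB : KRR.IsProjBundle π E O1 q) (s : X ⟶ P) (hs : s ≫ π = 𝟙 X) :
    Mor2.IsRegularClosedImmersion s := by
  have := smoothOfRelativeDimension hE hPB
  have := (exists_zero hE hPB s hs).1
  exact SectSmooth.isRegularClosedImmersion r π s hs

theorem isFinLocFreeOfRank_conormal (hE : FlatMod.IsFinLocFreeOfRank (r + 1) E)
    (hPB : KRR.IsProjBundle π E O1 q) (s : X ⟶ P) (hs : s ≫ π = 𝟙 X) :
    FlatMod.IsFinLocFreeOfRank r (Omega.conormal s) := by
  have := smoothOfRelativeDimension hE hPB
  have := (exists_zero hE hPB s hs).1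
  exact SectSmooth.isFinLocFreeOfRank_conormal r π s hs

/-- The pull-back of the module of the cosection is the conormal module. -/
theorem nonempty_conormal_iso (hE : FlatMod.IsFinLocFreeOfRank (r + 1) E)
    (hPB : KRR.IsProjBundle π E O1 q) (s : X ⟶ P) (hs : s ≫ π = 𝟙 X) {N : P.Modules}
    {t : N ⟶ Coh.structureModule P} (hN : FlatMod.IsFinLocFreeOfRank r N)
    (ht : ∀ U : P.affineOpens, s.ker.ideal U = ImIdeal.rg t U.1) :
    Nonempty ((Scheme.Modules.pullback s).obj N ≅ Omega.conormal s) := by
  obtain ⟨l, hl, -⟩ := ImIdeal.exists_factor t s.ker ht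
  have h1 : Epi ((Scheme.Modules.pullback s).map l) := inferInstance
  let l' : (Scheme.Modules.pullback s).obj N ⟶ Omega.conormal s := (Scheme.Modules.pullback s).map l
  have h2 : Epi l' := h1
  have := EpiIso.isIso_of_epi l'
    (Groth.Agent.PerfB.FibreConc.isFinLocFreeOfRank_pullback s hN)
    (isFinLocFreeOfRank_conormal hE hPB s hs)
  exact ⟨asIso l'⟩

end Zero

end Groth.Agent.Krr.H478.SectZero
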